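import Mathlib.LinearAlgebra.Finsupp.LinearCombination
import Mathlib.LinearAlgebra.Finsupp.Supported
import Mathlib.Algebra.BigOperators.Fin
import Mathlib.Data.Fin.Tuple.Basic
import Mathlib.Data.Finset.Lattice.Fold
import Mathlib.Order.Fin.Tuple
import Mathlib.SetTheory.Cardinal.Finite

/-!
# Ordered simplices versus increasing simplices

The ordered chain complex of a linearly ordered set, with the projection onto increasing simplices
and a homotopy to the identity preserving supports.
-/

set_option autoImplicit false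
set_option linter.all false

universe u

namespace GrothLib.CechAlt25

variable {ι : Type u}

/-- Chains on tuples of length `j`. -/
abbrev Ch (ι : Type u) (j : ℕ) : Type u := (Fin j → ι) →₀ ℤ

/-- The boundary. -/
noncomputable def bd (j : ℕ) : Ch ι (j + 1) →ₗ[ℤ] Ch ι j :=
  Finsupp.linearCombination ℤ fun a =>
    ∑ k : Fin (j + 1), (-1 : ℤ) ^ (k : ℕ) • Finsupp.single (fun l => a (k.succAbove l)) 1

theorem bd_single {j : ℕ} (a : Fin (j + 1) → ι) :
    bd j (Finsupp.single a 1) =
      ∑ k : Fin (j + 1), (-1 : ℤ) ^ (k : ℕ) • Finsupp.single (fun l => a (k.succAbove l)) 1 := by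
  simp [bd]

theorem cons_succAbove {j : ℕ} (v : ι) (b : Fin (j + 1) → ι) (k : Fin (j + 1)) :
    (fun l => (Fin.cons v b : Fin (j + 2) → ι) (k.succ.succAbove l)) =
      Fin.cons v (fun l => b (k.succAbove l)) := by
  funext l
  induction l using Fin.cases with
  | zero => simp
  | succ l => simp [Fin.succ_succAbove_succ]

/-- Cone with vertex `v`. -/
noncomputable def cone (v : ι) (j : ℕ) : Ch ι j →ₗ[ℤ] Ch ι (j + 1) :=
  Finsupp.linearCombination ℤ fun b => Finsupp.single (Fin.cons v b) 1

theorem cone_single (v : ι) {j : ℕ} (b : Fin j → ι) :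
    cone v j (Finsupp.single b 1) = Finsupp.single (Fin.cons v b) 1 := by
  simp [cone]

theorem bd_cone_zero (v : ι) (x : Ch ι 0) : bd 0 (cone v 0 x) = x := by
  have h : bd 0 ∘ₗ cone v 0 = LinearMap.id := by
    refine Finsupp.lhom_ext' fun b => LinearMap.ext_ring ?_
    show bd 0 (cone v 0 (Finsupp.single b 1)) = Finsupp.single b 1
    rw [cone_single, bd_single, Fin.sum_univ_one]
    simp only [Fin.val_zero, pow_zero, one_smul]
    congr 1
  exact LinearMap.congr_fun h x

theorem bd_cone_single (v : ι) {j : ℕ} (b : Fin (j + 1) → ι) :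
    bd (j + 1) (Finsupp.single (Fin.cons v b) 1) =
      Finsupp.single b 1 - cone v j (bd j (Finsupp.single b 1)) := by
  rw [bd_single, bd_single, Fin.sum_univ_succ, map_sum, sub_eq_add_neg, ← Finset.sum_neg_distrib]
  refine congrArg₂ (· + ·) ?_ (Finset.sum_congr rfl fun k _ => ?_)
  · simp
  · rw [map_zsmul, cone_single, cons_succAbove, Fin.val_succ, pow_succ, mul_neg_one, neg_smul]

theorem bd_cone (v : ι) {j : ℕ} (x : Ch ι (j + 1)) :
    bd (j + 1) (cone v (j + 1) x) = x - cone v j (bd j x) := by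
  have h : bd (j + 1) ∘ₗ cone v (j + 1) = LinearMap.id - cone v j ∘ₗ bd j := by
    refine Finsupp.lhom_ext' fun b => LinearMap.ext_ring ?_
    show bd (j + 1) (cone v (j + 1) (Finsupp.single b 1)) = _
    rw [cone_single, bd_cone_single]
    rfl
  exact LinearMap.congr_fun h x

theorem bd_bd : ∀ (j : ℕ) (x : Ch ι (j + 2)), bd j (bd (j + 1) x) = 0 := by
  intro j
  induction j with
  | zero =>
    intro x
    have h : bd 0 ∘ₗ bd 1 = (0 : Ch ι 2 →ₗ[ℤ] Ch ι 0) := by
      refine Finsupp.lhom_ext' fun a => LinearMap.ext_ring ?_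
      show bd 0 (bd 1 (Finsupp.single a 1)) = 0
      rw [← Fin.cons_self_tail a, bd_cone_single, map_sub, bd_cone_zero, sub_self]
    exact LinearMap.congr_fun h x
  | succ j ih =>
    intro x
    have h : bd (j + 1) ∘ₗ bd (j + 2) = (0 : Ch ι (j + 3) →ₗ[ℤ] Ch ι (j + 1)) := by
      refine Finsupp.lhom_ext' fun a => LinearMap.ext_ring ?_
      show bd (j + 1) (bd (j + 2) (Finsupp.single a 1)) = 0
      rw [← Fin.cons_self_tail a, bd_cone_single, map_sub, bd_cone, ih, map_zero, sub_zero, sub_self]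
    exact LinearMap.congr_fun h x

/-- Chains supported in a set of tuples. -/
abbrev Sup {j : ℕ} (T : Set (Fin j → ι)) : Submodule ℤ (Ch ι j) := Finsupp.supported ℤ ℤ T

theorem map_mem {j k : ℕ} (L : Ch ι j →ₗ[ℤ] Ch ι k)
    {T : Set (Fin j → ι)} {p : Submodule ℤ (Ch ι k)} (h : ∀ b ∈ T, L (Finsupp.single b 1) ∈ p)
    {x : Ch ι j} (hx : x ∈ Sup T) : L x ∈ p := by
  rw [Sup, Finsupp.supported_eq_span_single] at hx
  induction hx using Submodule.span_induction with
  | mem y hy =>
    obtain ⟨b, hb, rfl⟩ := hy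
    exact h b hb
  | zero => rw [map_zero]; exact p.zero_mem
  | add y z _ _ hy hz => rw [map_add]; exact p.add_mem hy hz
  | smul c y _ hy => rw [map_smul]; exact p.smul_mem c hy

theorem eq_on {j k : ℕ} (L L' : Ch ι j →ₗ[ℤ] Ch ι k)
    {T : Set (Fin j → ι)} (h : ∀ b ∈ T, L (Finsupp.single b 1) = L' (Finsupp.single b 1))
    {x : Ch ι j} (hx : x ∈ Sup T) : L x = L' x := by
  have h' : (L - L') x ∈ (⊥ : Submodule ℤ (Ch ι k)) :=
    map_mem (L - L') (fun b hb => by simp [h b hb]) hx
  exact sub_eq_zero.1 h'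

theorem single_mem {j : ℕ} {T : Set (Fin j → ι)} {b : Fin j → ι} (h : b ∈ T) :
    Finsupp.single b (1 : ℤ) ∈ Sup T :=
  Finsupp.single_mem_supported ℤ 1 h

/-- Tuples with entries in `S`. -/
def In (j : ℕ) (S : Set ι) : Set (Fin j → ι) := {b | Set.range b ⊆ S}

theorem bd_mem {j : ℕ} {S : Set ι} {x : Ch ι (j + 1)} (hx : x ∈ Sup (In (j + 1) S)) :
    bd j x ∈ Sup (In j S) := by
  refine map_mem _ (fun b hb => ?_) hx
  rw [bd_single]
  refine Submodule.sum_mem _ fun k _ => Submodule.smul_mem _ _ (single_mem ?_)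
  rintro _ ⟨l, rfl⟩
  exact hb ⟨_, rfl⟩

theorem cone_mem {j : ℕ} {S : Set ι} {v : ι} (hv : v ∈ S) {x : Ch ι j} (hx : x ∈ Sup (In j S)) :
    cone v j x ∈ Sup (In (j + 1) S) := by
  refine map_mem _ (fun b hb => ?_) hx
  rw [cone_single]
  refine single_mem ?_
  rintro _ ⟨l, rfl⟩
  induction l using Fin.cases with
  | zero => exact hv
  | succ l => simpa using hb ⟨l, rfl⟩

variable [LinearOrder ι]

/-- Increasing tuples with entries in `S`. -/
def Inc (j : ℕ) (S : Set ι) : Set (Fin j → ι) := {b | StrictMono b ∧ Set.range b ⊆ S}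

/-- The cone inside the increasing tuples. -/
noncomputable def cone' (m : ι) (j : ℕ) : Ch ι j →ₗ[ℤ] Ch ι (j + 1) :=
  Finsupp.linearCombination ℤ fun b =>
    if ∀ i, m < b i then Finsupp.single (Fin.cons m b) 1 else 0

theorem cone'_of_lt {m : ι} {j : ℕ} {b : Fin j → ι} (h : ∀ i, m < b i) :
    cone' m j (Finsupp.single b 1) = Finsupp.single (Fin.cons m b) 1 := by
  simp [cone', h]

theorem cone'_of_not {m : ι} {j : ℕ} {b : Fin j → ι} (h : ¬ ∀ i, m < b i) :
    cone' m j (Finsupp.single b 1) = 0 := by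
  simp [cone', h]

theorem cone'_mem {j : ℕ} {S : Set ι} {m : ι} (hm : m ∈ S) {x : Ch ι j} (hx : x ∈ Sup (Inc j S)) :
    cone' m j x ∈ Sup (Inc (j + 1) S) := by
  refine map_mem _ (fun b hb => ?_) hx
  by_cases h : ∀ i, m < b i
  · rw [cone'_of_lt h]
    refine single_mem ⟨?_, ?_⟩
    · intro p q hpq
      induction p using Fin.cases with
      | zero =>
        induction q using Fin.cases with
        | zero => exact absurd hpq (lt_irrefl _)
        | succ q => simpa using h q
      | succ p =>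
        induction q using Fin.cases with
        | zero => exact absurd hpq (by simp [Fin.lt_def])
        | succ q => simpa using hb.1 (Fin.succ_lt_succ_iff.1 hpq)
    · rintro _ ⟨l, rfl⟩
      induction l using Fin.cases with
      | zero => exact hm
      | succ l => simpa using hb.2 ⟨l, rfl⟩
  · rw [cone'_of_not h]
    exact Submodule.zero_mem _

theorem bd_cone' {j : ℕ} {S : Set ι} {m : ι} (hm : ∀ s ∈ S, m ≤ s) {x : Ch ι (j + 1)}
    (hx : x ∈ Sup (Inc (j + 1) S)) :
    bd (j + 1) (cone' m (j + 1) x) = x - cone' m j (bd j x) := by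
  refine eq_on (bd (j + 1) ∘ₗ cone' m (j + 1)) (LinearMap.id - cone' m j ∘ₗ bd j) (fun b hb => ?_) hx
  show bd (j + 1) (cone' m (j + 1) (Finsupp.single b 1)) =
    Finsupp.single b 1 - cone' m j (bd j (Finsupp.single b 1))
  by_cases h : ∀ i, m < b i
  · rw [cone'_of_lt h, bd_cone_single, bd_single, map_sum, map_sum]
    congr 1
    refine Finset.sum_congr rfl fun k _ => ?_
    rw [map_zsmul, map_zsmul, cone_single, cone'_of_lt (fun i => h _)]
  · rw [cone'_of_not h, map_zero, bd_single, map_sum, Fin.sum_univ_succ]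
    push Not at h
    obtain ⟨i, hi⟩ := h
    have h0 : b 0 = m :=
      le_antisymm ((hb.1.monotone (Fin.zero_le i)).trans hi) (hm _ (hb.2 ⟨0, rfl⟩))
    have hrest : ∀ l : Fin j, m < b ((0 : Fin (j + 1)).succAbove l) := fun l => by
      rw [← h0]
      exact hb.1 (by simp [Fin.succ_pos])
    rw [map_zsmul, cone'_of_lt hrest, Finset.sum_eq_zero (fun k _ => ?_), add_zero]
    · have : (Fin.cons m (fun l => b ((0 : Fin (j + 1)).succAbove l)) : Fin (j + 1) → ι) = b := by
        funext l
        induction l using Fin.cases with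
        | zero => simp [h0]
        | succ l => simp
      rw [this]
      simp
    · have hj : ∃ l : Fin j, k.succ.succAbove l = 0 :=
        Fin.exists_succAbove_eq (Fin.succ_ne_zero k).symm
      obtain ⟨l, hl⟩ := hj
      rw [map_zsmul, cone'_of_not (fun hh => lt_irrefl m (by simpa [hl, h0] using hh l)), smul_zero]

theorem bd_cone'_zero {m : ι} (x : Ch ι 0) : bd 0 (cone' m 0 x) = x := by
  have : cone' m 0 = cone m 0 := by
    refine Finsupp.lhom_ext' fun b => LinearMap.ext_ring ?_
    show cone' m 0 (Finsupp.single b 1) = cone m 0 (Finsupp.single b 1)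
    rw [cone'_of_lt (fun i => i.elim0), cone_single]
  rw [this, bd_cone_zero]

/-- The projection onto increasing tuples. -/
noncomputable def alt : ∀ j, Ch ι j →ₗ[ℤ] Ch ι j
  | 0 => LinearMap.id
  | j + 1 => Finsupp.linearCombination ℤ fun a =>
      cone' (Finset.univ.inf' Finset.univ_nonempty a) j (alt j (bd j (Finsupp.single a 1)))

theorem alt_single {j : ℕ} (a : Fin (j + 1) → ι) :
    alt (j + 1) (Finsupp.single a 1) =
      cone' (Finset.univ.inf' Finset.univ_nonempty a) j (alt j (bd j (Finsupp.single a 1))) := by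
  simp [alt]

theorem alt_mem : ∀ (j : ℕ) {S : Set ι} {x : Ch ι j}, x ∈ Sup (In j S) → alt j x ∈ Sup (Inc j S) := by
  intro j
  induction j with
  | zero =>
    intro S x hx
    refine map_mem LinearMap.id (fun b hb => single_mem (T := Inc 0 S) ⟨fun p => p.elim0, hb⟩) hx
  | succ j ih =>
    intro S x hx
    refine map_mem _ (fun a ha => ?_) hx
    rw [alt_single]
    obtain ⟨i, -, hi⟩ := Finset.exists_mem_eq_inf' Finset.univ_nonempty a
    have h1 : Finsupp.single a (1 : ℤ) ∈ Sup (In (j + 1) S) := single_mem ha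
    have h2 : a i ∈ S := ha ⟨i, rfl⟩
    rw [← hi] at h2
    exact cone'_mem h2 (ih (S := S) (bd_mem h1))

theorem bd_alt_zero (x : Ch ι 1) : bd 0 (alt 1 x) = alt 0 (bd 0 x) := by
  have h : (bd 0).comp (alt 1) = bd (ι := ι) 0 := by
    refine Finsupp.lhom_ext' fun a => LinearMap.ext_ring ?_
    show bd 0 (alt 1 (Finsupp.single a 1)) = bd 0 (Finsupp.single a 1)
    rw [alt_single, bd_cone'_zero]
    rfl
  exact LinearMap.congr_fun h x

theorem bd_alt : ∀ (j : ℕ) (x : Ch ι (j + 1)), bd j (alt (j + 1) x) = alt j (bd j x) := by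
  intro j
  induction j with
  | zero => exact bd_alt_zero
  | succ j ih =>
    intro x
    have h : (bd (j + 1)).comp (alt (j + 2)) = (alt (j + 1)).comp (bd (ι := ι) (j + 1)) := by
      refine Finsupp.lhom_ext' fun a => LinearMap.ext_ring ?_
      show bd (j + 1) (alt (j + 2) (Finsupp.single a 1)) = alt (j + 1) (bd (j + 1) (Finsupp.single a 1))
      have h1 : Finsupp.single a (1 : ℤ) ∈ Sup (In (j + 2) (Set.range a)) :=
        single_mem (show Set.range a ⊆ Set.range a from subset_rfl)
      rw [alt_single, bd_cone' (S := Set.range a) ?_ (alt_mem _ (bd_mem h1)),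
        ih, bd_bd, map_zero, map_zero, sub_zero]
      rintro _ ⟨i, rfl⟩
      exact Finset.inf'_le _ (Finset.mem_univ i)
    exact LinearMap.congr_fun h x

/-- The homotopy from the identity to `alt`. -/
noncomputable def hom : ∀ j, Ch ι j →ₗ[ℤ] Ch ι (j + 1)
  | 0 => 0
  | j + 1 => Finsupp.linearCombination ℤ fun a =>
      cone (a 0) (j + 1) (Finsupp.single a 1 - alt (j + 1) (Finsupp.single a 1) -
        hom j (bd j (Finsupp.single a 1)))

theorem hom_single {j : ℕ} (a : Fin (j + 1) → ι) :
    hom (j + 1) (Finsupp.single a 1) = cone (a 0) (j + 1) (Finsupp.single a 1 -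
      alt (j + 1) (Finsupp.single a 1) - hom j (bd j (Finsupp.single a 1))) := by
  simp [hom]

theorem hom_mem : ∀ (j : ℕ) {S : Set ι} {x : Ch ι j}, x ∈ Sup (In j S) →
    hom j x ∈ Sup (In (j + 1) S) := by
  intro j
  induction j with
  | zero =>
    intro S x _
    exact Submodule.zero_mem _
  | succ j ih =>
    intro S x hx
    refine map_mem _ (fun a ha => ?_) hx
    rw [hom_single]
    refine cone_mem (ha ⟨0, rfl⟩) (Submodule.sub_mem _ (Submodule.sub_mem _ (single_mem ha) ?_)
      (ih (bd_mem (single_mem ha))))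
    exact Finsupp.supported_mono (fun b hb => hb.2) (alt_mem _ (single_mem ha))

theorem bd_hom : ∀ (j : ℕ) (x : Ch ι (j + 1)),
    bd (j + 1) (hom (j + 1) x) + hom j (bd j x) = x - alt (j + 1) x := by
  intro j
  induction j with
  | zero =>
    intro x
    refine LinearMap.congr_fun (f := bd 1 ∘ₗ hom 1 + hom 0 ∘ₗ bd 0) (g := LinearMap.id - alt 1)
      (Finsupp.lhom_ext' fun a => LinearMap.ext_ring ?_) x
    show bd 1 (hom 1 (Finsupp.single a 1)) + hom 0 (bd 0 (Finsupp.single a 1)) = _
    have h0 : ∀ z : Ch ι 0, hom 0 z = 0 := fun z => rfl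
    have h1 : ∀ z : Ch ι 0, alt 0 z = z := fun z => rfl
    show _ = Finsupp.single a 1 - alt 1 (Finsupp.single a 1)
    rw [hom_single, bd_cone]
    simp only [h0, map_sub, bd_alt, h1, sub_self, map_zero, sub_zero, add_zero]
  | succ j ih =>
    intro x
    refine LinearMap.congr_fun (f := bd (j + 2) ∘ₗ hom (j + 2) + hom (j + 1) ∘ₗ bd (j + 1))
      (g := LinearMap.id - alt (j + 2)) (Finsupp.lhom_ext' fun a => LinearMap.ext_ring ?_) x
    show bd (j + 2) (hom (j + 2) (Finsupp.single a 1)) + hom (j + 1) (bd (j + 1) (Finsupp.single a 1)) =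
      Finsupp.single a 1 - alt (j + 2) (Finsupp.single a 1)
    have h1 := ih (bd (j + 1) (Finsupp.single a 1))
    rw [bd_bd, map_zero, add_zero] at h1
    have h2 : bd (j + 1) (hom (j + 1) (bd (j + 1) (Finsupp.single a 1))) =
        bd (j + 1) (Finsupp.single a 1) - alt (j + 1) (bd (j + 1) (Finsupp.single a 1)) := h1
    rw [hom_single, bd_cone]
    simp only [map_sub, bd_alt, h2, sub_self, map_zero, sub_zero, sub_add_cancel]

theorem alt_eq_zero [Finite ι] {j : ℕ} (hj : Nat.card ι < j) (x : Ch ι j) : alt j x = 0 := by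
  have h : alt j x ∈ Sup (Inc j (Set.univ : Set ι)) :=
    alt_mem j (by simp [Sup, In, Finsupp.supported_univ, Set.subset_univ])
  have he : Inc j (Set.univ : Set ι) = ∅ := by
    refine Set.eq_empty_of_forall_notMem fun b hb => ?_
    have := Nat.card_le_card_of_injective b hb.1.injective
    rw [Nat.card_fin] at this
    omega
  rw [Sup, he, Finsupp.supported_empty] at h
  exact h

end GrothLib.CechAlt25
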