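import Groth.Agent.Lib.CechAlt25.Chains
import Groth.Agent.Lib.Cech.Opens

/-!
# Cech cohomology above the number of opens
-/

set_option autoImplicit false
set_option linter.all false

universe u

open CategoryTheory Limits Opposite TopologicalSpace

namespace GrothLib.CechAlt25

variable {X : TopCat.{u}} {ι : Type u} (U : ι → Opens X) (P : (Opens X)ᵒᵖ ⥤ AddCommGrpCat.{u})

theorem obj_le {k m : ℕ} (a : Fin (k + 1) → ι) (b : Fin (m + 1) → ι) (h : Set.range b ⊆ Set.range a) :
    Cech.obj U a ≤ Cech.obj U b := by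
  rw [Cech.obj_eq_iInf, Cech.obj_eq_iInf]
  refine le_iInf fun l => ?_
  obtain ⟨i, hi⟩ := h ⟨l, rfl⟩
  exact hi ▸ iInf_le (fun i => U (a i)) i

theorem res_res {A B E : Opens X} (h₁ : A ≤ B) (h₂ : B ≤ E) (x : P.obj (op E)) :
    P.map (homOfLE h₁).op (P.map (homOfLE h₂).op x) = P.map (homOfLE (h₁.trans h₂)).op x := by
  rw [← ConcreteCategory.comp_apply, ← P.map_comp]
  rfl

open Classical in
/-- A cochain evaluated on a chain, restricted to `obj U a`. -/
noncomputable def pair {m : ℕ} (f : (Cech.cx U P).X m) {k : ℕ} (a : Fin (k + 1) → ι) :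
    Ch ι (m + 1) →ₗ[ℤ] P.obj (op (Cech.obj U a)) :=
  Finsupp.linearCombination ℤ fun b =>
    if h : Set.range b ⊆ Set.range a then P.map (homOfLE (obj_le U a b h)).op (Cech.ev U P b f) else 0

theorem pair_single {m : ℕ} (f : (Cech.cx U P).X m) {k : ℕ} (a : Fin (k + 1) → ι) (b : Fin (m + 1) → ι)
    (h : Set.range b ⊆ Set.range a) :
    pair U P f a (Finsupp.single b 1) = P.map (homOfLE (obj_le U a b h)).op (Cech.ev U P b f) := by
  simp [pair, h]

theorem pair_self {m : ℕ} (f : (Cech.cx U P).X m) (a : Fin (m + 1) → ι) :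
    pair U P f a (Finsupp.single a 1) = Cech.ev U P a f := by
  rw [pair_single U P f a a subset_rfl,
    show homOfLE (obj_le U a a subset_rfl) = 𝟙 _ from Subsingleton.elim _ _, op_id, P.map_id]
  rfl

theorem map_pair {m : ℕ} (f : (Cech.cx U P).X m) {k l : ℕ} (a : Fin (k + 1) → ι) (c : Fin (l + 1) → ι)
    (h : Set.range a ⊆ Set.range c) (φ : Cech.obj U c ⟶ Cech.obj U a) {y : Ch ι (m + 1)}
    (hy : y ∈ Sup (In (m + 1) (Set.range a))) :
    P.map φ.op (pair U P f a y) = pair U P f c y := by
  rw [Sup, Finsupp.supported_eq_span_single] at hy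
  induction hy using Submodule.span_induction with
  | mem y hy =>
    obtain ⟨b, hb, rfl⟩ := hy
    rw [pair_single U P f a b hb, pair_single U P f c b (hb.trans h),
      show φ = homOfLE φ.le from Subsingleton.elim _ _, res_res]
  | zero => simp
  | add y z _ _ hy hz => rw [map_add, map_add, map_add, hy, hz]
  | smul r y _ hy => rw [map_zsmul, map_zsmul, map_zsmul, hy]

theorem pair_bd {m : ℕ} (f : (Cech.cx U P).X m) (hf : (Cech.cx U P).d m (m + 1) f = 0) {k : ℕ}
    (c : Fin (k + 1) → ι) {y : Ch ι (m + 2)} (hy : y ∈ Sup (In (m + 2) (Set.range c))) :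
    pair U P f c (bd (m + 1) y) = 0 := by
  rw [Sup, Finsupp.supported_eq_span_single] at hy
  induction hy using Submodule.span_induction with
  | mem y hy =>
    obtain ⟨b, hb, rfl⟩ := hy
    have hb : Set.range b ⊆ Set.range c := hb
    have h := congrArg (fun x => P.map (homOfLE (obj_le U c b hb)).op (Cech.ev U P b x)) hf
    simp only [Cech.ev_d, map_sum, map_zero] at h
    rw [bd_single, map_sum, ← h]
    refine Finset.sum_congr rfl fun i _ => ?_
    rw [map_zsmul, map_zsmul, pair_single U P f c _ (show Set.range (fun l => b (i.succAbove l)) ⊆ _ from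
        (Set.range_comp_subset_range _ b).trans hb),
      show Cech.proj U b i = homOfLE (Cech.proj U b i).le from Subsingleton.elim _ _, res_res]
  | zero => simp
  | add y z _ _ hy hz => rw [map_add, map_add, hy, hz, add_zero]
  | smul r y _ hy => rw [map_zsmul, map_zsmul, hy, zsmul_zero]

theorem isZero_homology_of_card_le [Finite ι] (q : ℕ) (hq : Nat.card ι ≤ q) :
    IsZero ((Cech.cx U P).homology q) := by
  rw [← HomologicalComplex.exactAt_iff_isZero_homology]
  cases q with
  | zero =>
    haveI : IsEmpty ι := by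
      rcases isEmpty_or_nonempty ι with h | h
      · exact h
      · exact absurd hq (Nat.not_le.2 Nat.card_pos)
    haveI : Subsingleton ((Cech.cx U P).X 0) := ⟨fun x y => Cech.ext U P fun a => isEmptyElim (a 0)⟩
    exact ShortComplex.exact_of_isZero_X₂ _ (AddCommGrpCat.isZero_of_subsingleton ((Cech.cx U P).X 0))
  | succ j =>
    letI : LinearOrder ι := LinearOrder.lift' (Finite.equivFin ι) (Finite.equivFin ι).injective
    rw [HomologicalComplex.exactAt_iff' _ j (j + 1) (j + 2) (by simp) (by simp), ShortComplex.ab_exact_iff]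
    intro (f : (Cech.cx U P).X (j + 1)) hf
    change (Cech.cx U P).d (j + 1) (j + 2) f = 0 at hf
    refine ⟨Cech.mk U P fun a => pair U P f a (hom (j + 1) (Finsupp.single a 1)), Cech.ext U P fun c => ?_⟩
    change Cech.ev U P c ((Cech.cx U P).d j (j + 1) _) = _
    rw [Cech.ev_d]
    have hc : Finsupp.single c (1 : ℤ) ∈ Sup (In (j + 2) (Set.range c)) :=
      single_mem (show Set.range c ⊆ Set.range c from subset_rfl)
    have h1 : hom (j + 1) (bd (j + 1) (Finsupp.single c 1)) =
        Finsupp.single c 1 - bd (j + 2) (hom (j + 2) (Finsupp.single c 1)) := by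
      have h2 := bd_hom (j + 1) (Finsupp.single c (1 : ℤ))
      rw [alt_eq_zero (by omega), sub_zero] at h2
      exact eq_sub_of_add_eq' h2
    calc ∑ k : Fin (j + 2), (-1 : ℤ) ^ (k : ℕ) • P.map (Cech.proj U c k).op
          (Cech.ev U P (fun l => c (k.succAbove l))
            (Cech.mk U P fun a => pair U P f a (hom (j + 1) (Finsupp.single a 1))))
        = pair U P f c (hom (j + 1) (bd (j + 1) (Finsupp.single c 1))) := by
          rw [bd_single, map_sum, map_sum]
          refine Finset.sum_congr rfl fun k _ => ?_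
          rw [map_zsmul, map_zsmul, Cech.ev_mk]
          congr 1
          exact map_pair U P f (fun l => c (k.succAbove l)) c (Set.range_comp_subset_range _ c) _
            (hom_mem _ (single_mem (show Set.range _ ⊆ Set.range _ from subset_rfl)))
      _ = Cech.ev U P c f := by
          rw [h1, map_sub, pair_bd U P f hf c (hom_mem _ hc), sub_zero, pair_self]

end GrothLib.CechAlt25
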